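import Groth.Agent.Eckardt51.Form
import Groth.Prelude.Def_W4c5monodromycubicsHesse
import Mathlib.LinearAlgebra.Matrix.SesquilinearForm
import Mathlib.LinearAlgebra.Matrix.Nondegenerate
import Mathlib.LinearAlgebra.Matrix.NonsingularInverse

/-!
The Hesse cubic form as a function: polar, smoothness, Hessian determinant.
-/

set_option autoImplicit false

namespace Groth.Agent.Hesse51

open Groth.Agent.Eckardt51 MvPolynomial

variable {K : Type*} [Field K] [CharZero K]

/-- The Hesse cubic as a function. -/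
def hk (k : K) (v : Fin 3 → K) : K :=
  v 0 ^ 3 + v 1 ^ 3 + v 2 ^ 3 - 3 * k * (v 0 * v 1 * v 2)

omit [CharZero K] in
lemma eval_form (k : K) (v : Fin 3 → K) : eval v (HesseCubic.form k) = hk k v := by
  simp [HesseCubic.form, hk]

omit [CharZero K] in
lemma form_isHomogeneous (k : K) : (HesseCubic.form k).IsHomogeneous 3 := by
  have hX : ∀ i : Fin 3, (X i ^ 3 : MvPolynomial (Fin 3) K).IsHomogeneous 3 := fun i => by
    simpa using (isHomogeneous_X K i).pow 3
  refine ((hX 0).add (hX 1)).add (hX 2) |>.sub ?_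
  simpa [mul_assoc] using
    (((isHomogeneous_X K 0).mul (isHomogeneous_X K 1)).mul (isHomogeneous_X K 2)).C_mul (3 * k)

/-- The symmetric trilinear form of the Hesse cubic. -/
noncomputable def Hk (k : K) : Sym3 K (Fin 3 → K) := ofPoly (HesseCubic.form k)

lemma Hk_f (k : K) (v : Fin 3 → K) : (Hk k).f v = hk k v := by
  rw [Hk, ← eval_eq_f (form_isHomogeneous k), eval_form]

lemma Hk_T (k : K) (x y z : Fin 3 → K) :
    (Hk k).T x y z = x 0 * y 0 * z 0 + x 1 * y 1 * z 1 + x 2 * y 2 * z 2 -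
      k / 2 * (x 0 * y 1 * z 2 + x 0 * y 2 * z 1 + x 1 * y 0 * z 2 + x 1 * y 2 * z 0 +
        x 2 * y 0 * z 1 + x 2 * y 1 * z 0) := by
  refine mul_left_cancel₀ (show (6 : K) ≠ 0 by norm_num) ?_
  rw [(Hk k).six_T]
  simp only [Hk_f, hk, Pi.add_apply]
  ring

omit [CharZero K] in
/-- The Hesse cubic with `k ^ 3 ≠ 1` has no nonzero critical point. -/
lemma eq_zero_of_critical {k : K} (hk1 : k ^ 3 ≠ 1) {v : Fin 3 → K}
    (h0 : v 0 ^ 2 = k * (v 1 * v 2)) (h1 : v 1 ^ 2 = k * (v 0 * v 2))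
    (h2 : v 2 ^ 2 = k * (v 0 * v 1)) : v = 0 := by
  have hP : v 0 * v 1 * v 2 = 0 := by
    have h : (1 - k ^ 3) * (v 0 * v 1 * v 2) ^ 2 = 0 := by
      linear_combination v 1 ^ 2 * v 2 ^ 2 * h0 + k * (v 1 * v 2) * v 2 ^ 2 * h1 +
        k * (v 1 * v 2) * (k * (v 0 * v 2)) * h2
    rcases mul_eq_zero.1 h with h | h
    · exact absurd (by linear_combination -h) hk1
    · simpa using h
  have h3 : ∀ i, v i = 0 := by
    intro i
    rcases mul_eq_zero.1 hP with h | h
    · rcases mul_eq_zero.1 h with h | h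
      · fin_cases i <;> simp_all
      · fin_cases i <;> simp_all
    · fin_cases i <;> simp_all
  exact funext h3

lemma Hk_smooth {k : K} (hk1 : k ^ 3 ≠ 1) {v : Fin 3 → K} (hv : v ≠ 0) :
    ∃ y, (Hk k).T v v y ≠ 0 := by
  by_contra! h
  have e : ∀ i, (Hk k).T v v (Pi.single i 1) = 0 := fun i => h _
  refine hv (eq_zero_of_critical hk1 ?_ ?_ ?_)
  · have := e 0; rw [Hk_T] at this; simp at this; linear_combination this
  · have := e 1; rw [Hk_T] at this; simp at this; linear_combination this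
  · have := e 2; rw [Hk_T] at this; simp at this; linear_combination this

lemma det_hessian (k : K) (v : Fin 3 → K) :
    4 * (LinearMap.toMatrix₂' K ((Hk k).T v)).det =
      4 * (1 - k ^ 3) * (v 0 * v 1 * v 2) - k ^ 2 * hk k v := by
  rw [Matrix.det_fin_three]
  simp only [LinearMap.toMatrix₂'_apply, Hk_T, hk]
  simp
  ring

/-- `v` is a flex with tangent direction `w`. -/
def FlexDir (F : Sym3 K (Fin 3 → K)) (v w : Fin 3 → K) : Prop :=
  LinearIndependent K ![v, w] ∧ F.T v v w = 0 ∧ F.T v w w = 0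

lemma flex_iff (F : Sym3 K (Fin 3 → K)) (v w : Fin 3 → K) (hv : F.f v = 0) :
    (∀ t : K, F.f (v + t • w) = t ^ 3 * F.f w) ↔ F.T v v w = 0 ∧ F.T v w w = 0 := by
  refine ⟨fun h => ?_, fun ⟨h1, h2⟩ t => ?_⟩
  · have e1 := h 1
    have e2 := h (-1)
    rw [F.f_add_smul, hv] at e1 e2
    exact ⟨mul_left_cancel₀ (show (6 : K) ≠ 0 by norm_num) (by linear_combination e1 - e2),
      mul_left_cancel₀ (show (6 : K) ≠ 0 by norm_num) (by linear_combination e1 + e2)⟩
  · rw [F.f_add_smul, hv, h1, h2]; ring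

/-- The Hessian vanishes at a flex. -/
lemma det_eq_zero_of_flexDir (F : Sym3 K (Fin 3 → K)) {v w : Fin 3 → K} (hv : F.f v = 0)
    (h : FlexDir F v w) (hsm : ∃ z, F.T v v z ≠ 0) :
    (LinearMap.toMatrix₂' K (F.T v)).det = 0 := by
  obtain ⟨hind, h1, h2⟩ := h
  obtain ⟨z, hz⟩ := hsm
  have hspan : ∀ y, ∃ a b c : K, y = a • v + b • w + c • z := by
    intro y
    have hli : LinearIndependent K ![v, w, z] := by
      rw [Fintype.linearIndependent_iff]
      intro g hg
      simp only [Fin.sum_univ_three, Matrix.cons_val] at hg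
      have hc : g 2 = 0 := by
        have := congrArg (F.T v v) hg
        simpa [show F.T v v v = 0 from hv, h1, hz] using this
      rw [hc, zero_smul, add_zero] at hg
      obtain ⟨ha, hb⟩ := LinearIndependent.pair_iff.1 hind _ _ hg
      intro i; fin_cases i <;> assumption
    have := hli.span_eq_top_of_card_eq_finrank (by simp)
    have hy : y ∈ Submodule.span K (Set.range ![v, w, z]) := this ▸ Submodule.mem_top
    obtain ⟨g, hg⟩ := (Submodule.mem_span_range_iff_exists_fun K).1 hy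
    exact ⟨g 0, g 1, g 2, by rw [← hg, Fin.sum_univ_three]; rfl⟩
  set c := F.T v w z / F.T v v z with hc
  rw [← Matrix.exists_mulVec_eq_zero_iff]
  refine ⟨w - c • v, fun h0 => ?_, funext fun i => ?_⟩
  · exact one_ne_zero (LinearIndependent.pair_iff.1 hind (-c) 1 (by rw [← h0]; module)).2
  · obtain ⟨a, b, d, hy⟩ := hspan (Pi.single i 1)
    have key : F.T v (Pi.single i 1) (w - c • v) = 0 := by
      rw [hy]
      simp only [map_add, map_sub, map_smul, LinearMap.add_apply, LinearMap.smul_apply, smul_eq_mul]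
      rw [F.s23 v w v, F.s23 v z v, show F.T v v v = 0 from hv, h1, h2, F.s23 v z w, hc]
      field_simp
      ring
    refine Eq.trans ?_ key
    simp only [Matrix.mulVec, dotProduct, LinearMap.toMatrix₂'_apply]
    conv_rhs => rw [show w - c • v = ∑ j, (w - c • v) j • (Pi.single j 1 : Fin 3 → K) from
      pi_eq_sum_univ' _]
    simp [mul_comm]

omit [CharZero K] in
/-- A point with vanishing Hessian is a flex. -/
lemma exists_flexDir_of_det (F : Sym3 K (Fin 3 → K)) {v : Fin 3 → K} (hv : v ≠ 0)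
    (hsm : ∃ z, F.T v v z ≠ 0) (hdet : (LinearMap.toMatrix₂' K (F.T v)).det = 0) :
    ∃ w, FlexDir F v w := by
  obtain ⟨u, hu, hu0⟩ := Matrix.exists_mulVec_eq_zero_iff.2 hdet
  have h : ∀ y, F.T v y u = 0 := by
    intro y
    rw [pi_eq_sum_univ' y, map_sum, LinearMap.sum_apply]
    refine Finset.sum_eq_zero fun i _ => ?_
    have hi := congrFun hu0 i
    simp only [Matrix.mulVec, dotProduct, LinearMap.toMatrix₂'_apply, Pi.zero_apply] at hi
    rw [pi_eq_sum_univ' u, map_sum]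
    refine Eq.trans ?_ ((congrArg (y i * ·) hi).trans (mul_zero _))
    simp [Finset.mul_sum, mul_comm, mul_left_comm]
  refine ⟨u, (LinearIndependent.pair_iff' hv).2 fun a ha => ?_, h v, h u⟩
  obtain ⟨z, hz⟩ := hsm
  have := h z
  rw [← ha, map_smul, smul_eq_mul, F.s23, mul_eq_zero] at this
  rcases this with h' | h'
  · exact hu (by rw [← ha, h', zero_smul])
  · exact hz h'

lemma exists_flexDir_classify {k : K} (hk1 : k ^ 3 ≠ 1) {v w : Fin 3 → K} (hv : v ≠ 0)
    (hfv : hk k v = 0) (h : FlexDir (Hk k) v w) :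
    ∃ γ c : K, γ ^ 3 = 1 ∧ (v = c • ![0, 1, -γ] ∨ v = c • ![-γ, 0, 1] ∨ v = c • ![1, -γ, 0]) := by
  have hd := det_eq_zero_of_flexDir _ (by rw [Hk_f]; exact hfv) h (Hk_smooth hk1 hv)
  have h4 := det_hessian k v
  rw [hd, hfv, mul_zero, mul_zero, sub_zero] at h4
  have hP : v 0 * v 1 * v 2 = 0 := by
    rcases mul_eq_zero.1 h4.symm with h' | h'
    · exact absurd (by linear_combination -h' / 4) hk1
    · exact h'
  have key : ∀ a b : K, a ^ 3 + b ^ 3 = 0 → (a ≠ 0 ∨ b ≠ 0) →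
      a ≠ 0 ∧ (-(b / a)) ^ 3 = 1 := by
    intro a b hab hne
    have ha : a ≠ 0 := fun ha => hne.elim (· ha) (fun hb => hb (by simpa [ha] using hab))
    refine ⟨ha, ?_⟩
    field_simp
    linear_combination -hab
  unfold hk at hfv
  rw [hP, mul_zero, sub_zero] at hfv
  have hne : v 0 ≠ 0 ∨ v 1 ≠ 0 ∨ v 2 ≠ 0 := by
    by_contra! hh
    exact hv (funext fun i => by fin_cases i <;> simp [hh])
  rcases mul_eq_zero.1 hP with h' | h2
  rcases mul_eq_zero.1 h' with h0 | h1
  · obtain ⟨ha, hγ⟩ := key (v 1) (v 2) (by simpa [h0] using hfv) (by simpa [h0] using hne)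
    exact ⟨_, v 1, hγ, Or.inl (funext fun i => by fin_cases i <;> simp [h0] <;> field_simp)⟩
  · obtain ⟨ha, hγ⟩ := key (v 2) (v 0) (by rw [add_comm]; simpa [h1] using hfv)
      (by rw [or_comm]; simpa [h1] using hne)
    exact ⟨_, v 2, hγ, Or.inr (Or.inl (funext fun i => by
      fin_cases i <;> simp [h1] <;> field_simp))⟩
  · obtain ⟨ha, hγ⟩ := key (v 0) (v 1) (by simpa [h2] using hfv) (by simpa [h2] using hne)
    exact ⟨_, v 0, hγ, Or.inr (Or.inr (funext fun i => by
      fin_cases i <;> simp [h2] <;> field_simp))⟩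

/-- The nine flexes are obtained from `(0, 1, -1)` by symmetries of the cubic. -/
lemma exists_symm_base {γ : K} (hγ : γ ^ 3 = 1) {u : Fin 3 → K}
    (hu : u = ![0, 1, -γ] ∨ u = ![-γ, 0, 1] ∨ u = ![1, -γ, 0]) :
    ∃ Q : Matrix (Fin 3) (Fin 3) K, IsUnit Q.det ∧ (∀ k v, hk k (Q.mulVec v) = hk k v) ∧
      Q.mulVec ![0, 1, -1] = u := by
  have hu0 : γ * γ * γ = 1 := by rw [← hγ]; ring
  rcases hu with rfl | rfl | rfl
  · refine ⟨!![γ ^ 2, 0, 0; 0, 1, 0; 0, 0, γ], ?_, fun k v => ?_, ?_⟩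
    · rw [Matrix.det_fin_three]; simp; intro h; simp [h] at hγ
    · simp [hk, Matrix.mulVec, dotProduct, Fin.sum_univ_three]
      linear_combination ((γ ^ 3 + 1) * v 0 ^ 3 + v 2 ^ 3 - 3 * k * (v 0 * v 1 * v 2)) * hγ
    · ext i; fin_cases i <;> simp [Matrix.mulVec, dotProduct, Fin.sum_univ_three]
  · refine ⟨!![0, 0, γ; γ ^ 2, 0, 0; 0, 1, 0], ?_, fun k v => ?_, ?_⟩
    · rw [Matrix.det_fin_three]; simp; intro h; simp [h] at hγ
    · simp [hk, Matrix.mulVec, dotProduct, Fin.sum_univ_three]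
      linear_combination ((γ ^ 3 + 1) * v 0 ^ 3 + v 2 ^ 3 - 3 * k * (v 0 * v 1 * v 2)) * hγ
    · ext i; fin_cases i <;> simp [Matrix.mulVec, dotProduct, Fin.sum_univ_three]
  · refine ⟨!![0, 1, 0; 0, 0, γ; γ ^ 2, 0, 0], ?_, fun k v => ?_, ?_⟩
    · rw [Matrix.det_fin_three]; simp; intro h; simp [h] at hγ
    · simp [hk, Matrix.mulVec, dotProduct, Fin.sum_univ_three]
      linear_combination ((γ ^ 3 + 1) * v 0 ^ 3 + v 2 ^ 3 - 3 * k * (v 0 * v 1 * v 2)) * hγ
    · ext i; fin_cases i <;> simp [Matrix.mulVec, dotProduct, Fin.sum_univ_three]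

lemma flexDir_base (k : K) : FlexDir (Hk k) ![0, 1, -1] ![1, -k, 0] := by
  refine ⟨LinearIndependent.pair_iff.2 fun s t h => ?_, by simp [Hk_T]; ring, by simp [Hk_T]; ring⟩
  have h0 := congrFun h 0
  have h2 := congrFun h 2
  simp at h0 h2
  exact ⟨h2, h0⟩

end Groth.Agent.Hesse51
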