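import Groth.Agent.Hesse51.Generic
import Mathlib.RingTheory.RootsOfUnity.AlgebraicallyClosed

/-!
Counting the automorphisms of determinant one of a general Hesse cubic.
-/

set_option autoImplicit false

namespace Groth.Agent.Hesse51

open Groth.Agent.Eckardt51

variable {K : Type*} [Field K] [CharZero K]

/-- The monomial matrix of a permutation and weights. -/
def mono (σ : Equiv.Perm (Fin 3)) (d : Fin 3 → K) : Matrix (Fin 3) (Fin 3) K :=
  Matrix.of fun i j => if σ i = j then d i else 0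

omit [CharZero K] in
lemma mono_mulVec (σ : Equiv.Perm (Fin 3)) (d : Fin 3 → K) (v : Fin 3 → K) :
    (mono σ d).mulVec v = fun i => d i * v (σ i) := by
  funext i
  simp [mono, Matrix.mulVec, dotProduct]

omit [CharZero K] in
lemma det_mono (σ : Equiv.Perm (Fin 3)) (d : Fin 3 → K) :
    (mono σ d).det = ((Equiv.Perm.sign σ : ℤ) : K) * (d 0 * d 1 * d 2) := by
  have h : mono σ d = Matrix.diagonal d * σ.permMatrix K := by
    ext i j
    simp [mono, Matrix.diagonal_mul, Equiv.Perm.permMatrix, PEquiv.toMatrix_apply, eq_comm]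
  rw [h, Matrix.det_mul, Matrix.det_diagonal, Matrix.det_permutation, Fin.prod_univ_three]
  ring

omit [CharZero K] in
lemma hk_mono (k : K) (σ : Equiv.Perm (Fin 3)) (d : Fin 3 → K) {c : K}
    (h3 : ∀ i, d i ^ 3 = c) (hp : d 0 * d 1 * d 2 = c) (v : Fin 3 → K) :
    hk k ((mono σ d).mulVec v) = c * hk k v := by
  have hs : ∑ i, v (σ i) ^ 3 = ∑ i, v i ^ 3 := Equiv.sum_comp σ (fun i => v i ^ 3)
  have hm : ∏ i, v (σ i) = ∏ i, v i := Equiv.prod_comp σ v
  rw [Fin.sum_univ_three, Fin.sum_univ_three] at hs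
  rw [Fin.prod_univ_three, Fin.prod_univ_three] at hm
  simp only [mono_mulVec, hk, mul_pow, h3]
  linear_combination c * hs - 3 * k * (v (σ 0) * v (σ 1) * v (σ 2)) * hp - 3 * k * c * hm

/-- The weights attached to a pair of cube roots of unity. -/
def weights (s : K) (e : {x : K // x ^ 3 = 1} × {x : K // x ^ 3 = 1}) : Fin 3 → K :=
  ![s * e.1.1, s * e.2.1, s * (e.1.1 * e.2.1) ^ 2]

theorem card_automorphisms {k ω : K} (hω : IsPrimitiveRoot ω 3) (hexc : exceptional k ≠ 0) :
    Nat.card {A : Matrix (Fin 3) (Fin 3) K // A.det = 1 ∧ ∃ c : K, ∀ v,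
      Groth.Agent.Hesse51.hk k (A.mulVec v) = c * Groth.Agent.Hesse51.hk k v} = 54 := by
  classical
  have hk0 : k ≠ 0 := fun h => hexc (by simp [exceptional, h])
  have hk1 : k ^ 3 ≠ 1 := fun h => hexc (by simp [exceptional, h])
  let sg : Equiv.Perm (Fin 3) → K := fun σ => ((Equiv.Perm.sign σ : ℤ) : K)
  have hsg : ∀ σ, sg σ ^ 2 = 1 := fun σ => by
    rcases Int.units_eq_one_or (Equiv.Perm.sign σ) with h | h <;> simp [sg, h]
  have hsg0 : ∀ σ, sg σ ≠ 0 := fun σ h => by simpa [h] using hsg σ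
  have hprod : ∀ σ e, weights (sg σ) e 0 * weights (sg σ) e 1 * weights (sg σ) e 2 = sg σ := by
    intro σ e
    simp only [weights, Matrix.cons_val]
    linear_combination sg σ * (e.1.1 * e.2.1) ^ 3 * hsg σ + sg σ * e.2.1 ^ 3 * e.1.2 + sg σ * e.2.2
  have hcube : ∀ σ e i, weights (sg σ) e i ^ 3 = sg σ := by
    intro σ e i
    fin_cases i <;> simp only [weights, Fin.zero_eta, Fin.mk_one, Fin.reduceFinMk, Matrix.cons_val]
    · linear_combination sg σ * e.1.1 ^ 3 * hsg σ + sg σ * e.1.2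
    · linear_combination sg σ * e.2.1 ^ 3 * hsg σ + sg σ * e.2.2
    · linear_combination sg σ * (e.1.1 * e.2.1) ^ 6 * hsg σ +
        sg σ * (e.1.1 ^ 3 + 1) * e.2.1 ^ 6 * e.1.2 + sg σ * (e.2.1 ^ 3 + 1) * e.2.2
  let F : Equiv.Perm (Fin 3) × ({x : K // x ^ 3 = 1} × {x : K // x ^ 3 = 1}) →
      {A : Matrix (Fin 3) (Fin 3) K // A.det = 1 ∧ ∃ c : K, ∀ v,
        Groth.Agent.Hesse51.hk k (A.mulVec v) = c * Groth.Agent.Hesse51.hk k v} := fun p =>
    ⟨mono p.1 (weights (sg p.1) p.2), by
      rw [det_mono, hprod]; simpa [pow_two] using hsg p.1, sg p.1,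
      hk_mono k _ _ (hcube _ _) (hprod _ _)⟩
  have hne : ∀ σ e i, weights (sg σ) e i ≠ 0 := fun σ e i h =>
    hsg0 σ (by rw [← hcube σ e i, h]; simp)
  have hFi : Function.Injective F := by
    rintro ⟨σ, e⟩ ⟨σ', e'⟩ h
    have h' : ∀ i j, mono σ (weights (sg σ) e) i j = mono σ' (weights (sg σ') e') i j :=
      fun i j => by rw [show mono σ (weights (sg σ) e) = _ from congrArg Subtype.val h]
    have hσ : σ = σ' := Equiv.ext fun i => by
      by_contra hne'
      have := h' i (σ i)
      simp [mono, Ne.symm hne', hne σ e i] at this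
    subst hσ
    have h0 := h' 0 (σ 0)
    have h1 := h' 1 (σ 1)
    simp only [mono, Matrix.of_apply, if_true, weights, Matrix.cons_val] at h0 h1
    exact Prod.ext rfl (Prod.ext (Subtype.ext (mul_left_cancel₀ (hsg0 σ) h0))
      (Subtype.ext (mul_left_cancel₀ (hsg0 σ) h1)))
  have hFs : Function.Surjective F := by
    rintro ⟨A, hA, c, hc⟩
    obtain ⟨hc0, a, b, ha, hab⟩ := exists_pencil hk1 hA hc
    have hperm : ∀ w, Prod3 (G k w) → Prod3 (G k ((c * w + b) / a)) := by
      intro w hw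
      refine Prod3.of_comp (A := A⁻¹) (by
        rw [← Matrix.isUnit_iff_isUnit_det, Matrix.isUnit_nonsing_inv_iff,
          Matrix.isUnit_iff_isUnit_det, hA]; exact isUnit_one) ((hw.smul a⁻¹).congr fun v => ?_)
      have h1 := hc (A⁻¹.mulVec v)
      have h2 := hab (A⁻¹.mulVec v)
      rw [Matrix.mulVec_mulVec, Matrix.mul_nonsing_inv _ (hA ▸ isUnit_one), Matrix.one_mulVec]
        at h1 h2
      simp only [G]
      rw [show Groth.Agent.Hesse51.hk k v = c * Groth.Agent.Hesse51.hk k (A⁻¹.mulVec v) from h1]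
      field_simp
      rw [h2]
      ring
    have hb := pencil_trivial hω hexc ha hc0 hperm
    obtain ⟨σ, d, hAd⟩ := monomial_of_prod (A := A) (by rw [hA]; exact one_ne_zero) (a := a)
      (fun v => by rw [hab, hb]; ring)
    replace hAd : A = mono σ d := hAd
    subst hAd
    rw [det_mono] at hA
    have hs := fun i : Fin 3 => hc (Pi.single (σ i) 1)
    have h3 : ∀ i, d i ^ 3 = c := by
      intro i
      have := hs i
      have hv : (mono σ d).mulVec (Pi.single (σ i) 1) = Pi.single i (d i) := by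
        rw [mono_mulVec]
        funext j
        by_cases hji : j = i
        · simp [hji]
        · simp [hji, σ.injective.ne hji]
      rw [hv] at this
      have e1 : ∀ (j : Fin 3) (t : K), Groth.Agent.Hesse51.hk k (Pi.single j t) = t ^ 3 := fun j t => by
        fin_cases j <;> simp [Groth.Agent.Hesse51.hk]
      rw [e1, e1, one_pow, mul_one] at this
      exact this
    have hp : d 0 * d 1 * d 2 = c := by
      have := hc ![1, 1, 1]
      simp only [mono_mulVec, Groth.Agent.Hesse51.hk, mul_pow, h3] at this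
      have e1 : ∀ j : Fin 3, (![1, 1, 1] : Fin 3 → K) j = 1 := fun j => by fin_cases j <;> rfl
      simp only [e1] at this
      have h3k : (3 : K) * k ≠ 0 := mul_ne_zero (by norm_num) hk0
      refine mul_left_cancel₀ h3k ?_
      linear_combination -this
    rw [hp] at hA
    have hcs : c = sg σ := by linear_combination sg σ * hA - c * hsg σ
    rw [hcs] at h3 hp
    have hr : ∀ i, (sg σ * d i) ^ 3 = 1 := fun i => by
      linear_combination sg σ ^ 3 * h3 i + (sg σ ^ 2 + 1) * hsg σ
    refine ⟨(σ, ⟨_, hr 0⟩, ⟨_, hr 1⟩), Subtype.ext ?_⟩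
    change mono σ _ = mono σ d
    congr 1
    funext i
    fin_cases i <;> simp only [weights, Fin.zero_eta, Fin.mk_one, Fin.reduceFinMk, Matrix.cons_val]
    · linear_combination d 0 * hsg σ
    · linear_combination d 1 * hsg σ
    · have h01 : d 0 * d 1 ≠ 0 := fun h => hsg0 σ (by rw [← hp, h, zero_mul])
      refine mul_left_cancel₀ h01 ?_
      linear_combination -hp + sg σ ^ 5 * d 1 ^ 3 * h3 0 + sg σ ^ 6 * h3 1 +
        sg σ * (sg σ ^ 4 + sg σ ^ 2 + 1) * hsg σ
  rw [← Nat.card_congr (Equiv.ofBijective F ⟨hFi, hFs⟩), Nat.card_prod, Nat.card_prod]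
  have hroots : Nat.card {x : K // x ^ 3 = 1} = 3 := by
    have e : {x : K // x ^ 3 = 1} ≃ (Polynomial.nthRootsFinset 3 (1 : K) : Finset K) :=
      Equiv.subtypeEquivRight fun x => (Polynomial.mem_nthRootsFinset (by norm_num) 1).symm
    rw [Nat.card_congr e, Nat.card_eq_fintype_card, Fintype.card_coe, hω.card_nthRootsFinset]
  rw [hroots, Nat.card_eq_fintype_card, Fintype.card_perm, Fintype.card_fin]
  rfl

end Groth.Agent.Hesse51
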