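import Groth.Agent.Hesse51.Basic
import Mathlib.RingTheory.RootsOfUnity.PrimitiveRoots
import Mathlib.LinearAlgebra.Matrix.Permutation
import Mathlib.Algebra.Polynomial.Roots
import Mathlib.LinearAlgebra.Dimension.Finrank

/-!
Automorphisms of a general member of the Hesse pencil are monomial.
-/

set_option autoImplicit false

namespace Groth.Agent.Hesse51

open Groth.Agent.Eckardt51 Finset

variable {K : Type*} [Field K]

/-- A function on `K^3` that is a product of three linear forms. -/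
def Prod3 (G : (Fin 3 → K) → K) : Prop :=
  ∃ r : Fin 3 → (Fin 3 → K), ∀ v, G v = (r 0 ⬝ᵥ v) * (r 1 ⬝ᵥ v) * (r 2 ⬝ᵥ v)

lemma Prod3.smul {G : (Fin 3 → K) → K} (h : Prod3 G) (a : K) : Prod3 (fun v => a * G v) := by
  obtain ⟨r, hr⟩ := h
  refine ⟨![a • r 0, r 1, r 2], fun v => ?_⟩
  simp [hr, mul_assoc]

lemma Prod3.congr {G G' : (Fin 3 → K) → K} (h : Prod3 G) (e : ∀ v, G v = G' v) : Prod3 G' :=
  (funext e : G = G') ▸ h

lemma Prod3.of_comp {G : (Fin 3 → K) → K} {A : Matrix (Fin 3) (Fin 3) K} (hA : IsUnit A.det)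
    (h : Prod3 (fun v => G (A.mulVec v))) : Prod3 G := by
  obtain ⟨r, hr⟩ := h
  refine ⟨fun i => Matrix.vecMul (r i) A⁻¹, fun v => ?_⟩
  have := hr (A⁻¹.mulVec v)
  simp only [Matrix.mulVec_mulVec, Matrix.mul_nonsing_inv _ hA, Matrix.one_mulVec] at this
  rw [this, Matrix.dotProduct_mulVec, Matrix.dotProduct_mulVec, Matrix.dotProduct_mulVec]

variable [CharZero K]

lemma cube_eq_one_of_prod3 {t : K} (h : Prod3 (hk t)) : t ^ 3 = 1 := by
  by_contra ht
  obtain ⟨r, hr⟩ := h
  obtain ⟨v, hv, hv0⟩ := (Matrix.exists_mulVec_eq_zero_iff (M := Matrix.of ![r 0, r 1, r 1])).2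
    (Matrix.det_zero_of_row_eq (show (1 : Fin 3) ≠ 2 by decide) rfl)
  have h0 : r 0 ⬝ᵥ v = 0 := congrFun hv0 0
  have h1 : r 1 ⬝ᵥ v = 0 := congrFun hv0 1
  obtain ⟨y, hy⟩ := Hk_smooth ht hv
  refine hy (mul_left_cancel₀ (show (6 : K) ≠ 0 by norm_num) ?_)
  rw [(Hk t).six_T]
  simp only [Hk_f, hr, dotProduct_add, h0, h1]
  ring

/-- Covariance of the Hessian: the product of the coordinates is carried into the pencil. -/
lemma exists_pencil {k c : K} (hk1 : k ^ 3 ≠ 1) {A : Matrix (Fin 3) (Fin 3) K} (hA : A.det = 1)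
    (h : ∀ v, hk k (A.mulVec v) = c * hk k v) :
    c ≠ 0 ∧ ∃ a b : K, a ≠ 0 ∧ ∀ v, (A.mulVec v) 0 * (A.mulVec v) 1 * (A.mulVec v) 2 =
      a * (v 0 * v 1 * v 2) + b * hk k v := by
  have hu : IsUnit A.det := hA ▸ isUnit_one
  have hc : c ≠ 0 := fun hc => by
    have := h (A⁻¹.mulVec ![1, 0, 0])
    rw [Matrix.mulVec_mulVec, Matrix.mul_nonsing_inv _ hu, Matrix.one_mulVec, hc, zero_mul] at this
    simp [hk] at this
  have hT := (Hk k).T_map_of_f_map A.mulVec (Matrix.mulVec_add A) c
    (fun v => by rw [Hk_f, Hk_f]; exact h v)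
  have hdet : ∀ v, (LinearMap.toMatrix₂' K ((Hk k).T (A.mulVec v))).det =
      c ^ 3 * (LinearMap.toMatrix₂' K ((Hk k).T v)).det := by
    intro v
    have e : ((Hk k).T (A.mulVec v)).compl₁₂ (Matrix.toLin' A) (Matrix.toLin' A) = c • (Hk k).T v := by
      refine LinearMap.ext₂ fun x y => ?_
      simp only [LinearMap.compl₁₂_apply, Matrix.toLin'_apply, LinearMap.smul_apply, smul_eq_mul]
      exact hT v x y
    have := congrArg (fun B => (LinearMap.toMatrix₂' K B).det) e
    simp only [LinearMap.toMatrix₂'_compl₁₂, LinearMap.toMatrix'_toLin', Matrix.det_mul,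
      Matrix.det_transpose, hA, one_mul, mul_one, map_smul, Matrix.det_smul, Fintype.card_fin] at this
    exact this
  refine ⟨hc, c ^ 3, k ^ 2 * c * (1 - c ^ 2) / (4 * (1 - k ^ 3)), pow_ne_zero _ hc, fun v => ?_⟩
  have e1 := det_hessian k (A.mulVec v)
  have e2 := det_hessian k v
  rw [hdet, h] at e1
  have hD : (4 : K) * (1 - k ^ 3) ≠ 0 := mul_ne_zero (by norm_num) (sub_ne_zero.2 (Ne.symm hk1))
  refine mul_left_cancel₀ hD ?_
  rw [mul_add, ← mul_assoc (4 * (1 - k ^ 3)) (k ^ 2 * c * (1 - c ^ 2) / (4 * (1 - k ^ 3))),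
    mul_div_cancel₀ _ hD]
  linear_combination c ^ 3 * e2 - e1

/-- The member of the pencil with affine parameter `w`. -/
def G (k w : K) (v : Fin 3 → K) : K := w * hk k v + v 0 * v 1 * v 2

lemma prod3_G_iff {k : K} {ω : K} (hω : IsPrimitiveRoot ω 3) (w : K) :
    Prod3 (G k w) ↔ w = 0 ∨ (3 * k * w - 1) ^ 3 = (3 * w) ^ 3 := by
  constructor
  · intro h
    by_cases hw : w = 0
    · exact Or.inl hw
    refine Or.inr ?_
    have := cube_eq_one_of_prod3 (t := k - 1 / (3 * w)) ((h.smul w⁻¹).congr fun v => by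
      simp only [G, hk]; field_simp; ring)
    field_simp at this
    linear_combination this
  · intro h
    by_cases hw : w = 0
    · exact ⟨![Pi.single 0 1, Pi.single 1 1, Pi.single 2 1], fun v => by simp [G, hw]⟩
    replace h := h.resolve_left hw
    set γ := k - 1 / (3 * w) with hγ
    have hγ3 : γ ^ 3 = 1 := by rw [hγ]; field_simp; linear_combination h
    have hω2 : ω ^ 2 + ω + 1 = 0 := by
      have := hω.geom_sum_eq_zero (by norm_num)
      simp [Finset.sum_range_succ] at this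
      linear_combination this
    refine ⟨![w • ![γ, 1, 1], ![γ, ω, ω ^ 2], ![γ, ω ^ 2, ω]], fun v => ?_⟩
    have hG : G k w v = w * hk γ v := by simp only [G, hk, hγ]; field_simp; ring
    rw [hG]
    simp only [hk, dotProduct, Fin.sum_univ_three, Matrix.cons_val, Pi.smul_apply, smul_eq_mul]
    linear_combination -(w * v 0 ^ 3) * hγ3 -
      w * ((v 1 ^ 3 + v 2 ^ 3) * (ω - 1) + γ ^ 2 * v 0 ^ 2 * (v 1 + v 2) +
        γ * v 0 * (v 1 ^ 2 + v 2 ^ 2) * ω + γ * v 0 * v 1 * v 2 * (ω ^ 2 - ω + 3) +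
        (v 1 ^ 2 * v 2 + v 1 * v 2 ^ 2) * ω ^ 2) * hω2

/-- The polynomial whose roots are the exceptional parameters. -/
def exceptional (k : K) : K := k * (k ^ 3 - 1) * (k ^ 3 + 8) * (k ^ 6 - 20 * k ^ 3 - 8)

/-- For a general parameter the pencil map fixes the triangle `xyz`. -/
lemma pencil_trivial {k c a b : K} {ω : K} (hω : IsPrimitiveRoot ω 3) (hk : exceptional k ≠ 0)
    (ha : a ≠ 0) (hc : c ≠ 0)
    (hperm : ∀ w, Prod3 (G k w) → Prod3 (G k ((c * w + b) / a))) : b = 0 := by
  classical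
  simp only [exceptional, ne_eq, mul_eq_zero, not_or] at hk
  obtain ⟨⟨⟨hk0, hD⟩, h8⟩, h6⟩ := hk
  have hγ : ∀ i : Fin 3, (ω ^ (i : ℕ)) ^ 3 = 1 := fun i => by
    rw [← pow_mul, mul_comm, pow_mul, hω.pow_eq_one, one_pow]
  have hkne : ∀ i : Fin 3, k - ω ^ (i : ℕ) ≠ 0 := fun i h => hD (by
    rw [sub_eq_zero] at h; rw [h, hγ, sub_self])
  let S : Finset K := insert 0 (univ.image fun i : Fin 3 => 1 / (3 * (k - ω ^ (i : ℕ))))
  have hinj : Function.Injective fun i : Fin 3 => 1 / (3 * (k - ω ^ (i : ℕ))) := by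
    intro i j h
    simp only [one_div, inv_inj, mul_right_inj' (show (3 : K) ≠ 0 by norm_num), sub_right_inj] at h
    exact Fin.ext (hω.pow_inj i.2 j.2 h)
  have h0notMem : (0 : K) ∉ univ.image fun i : Fin 3 => 1 / (3 * (k - ω ^ (i : ℕ))) := by
    simp [hkne]
  have hcard : S.card = 4 := by
    rw [card_insert_of_notMem h0notMem, card_image_of_injective _ hinj]; rfl
  have hω2 : ω ^ 2 + ω + 1 = 0 := by
    have := hω.geom_sum_eq_zero (by norm_num)
    simp [Finset.sum_range_succ] at this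
    linear_combination this
  have hmem : ∀ w, w ∈ S ↔ w = 0 ∨ (3 * k * w - 1) ^ 3 = (3 * w) ^ 3 := by
    intro w
    simp only [S, mem_insert, mem_image, mem_univ, true_and]
    refine or_congr_right ?_
    constructor
    · rintro ⟨i, rfl⟩
      have := hkne i
      field_simp
      linear_combination hγ i
    · intro h
      have hw : w ≠ 0 := fun hw => by simp [hw] at h
      obtain ⟨i, hi, hi'⟩ := hω.eq_pow_of_pow_eq_one (ξ := (3 * k * w - 1) / (3 * w))
        (by rw [div_pow, h]; exact div_self (by simp [hw]))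
      refine ⟨⟨i, hi⟩, ?_⟩
      have := hkne ⟨i, hi⟩
      simp only at this ⊢
      rw [hi']
      field_simp
      ring
  have hS : ∀ w ∈ S, (c * w + b) / a ∈ S := fun w hw => by
    rw [hmem, ← prod3_G_iff hω] at hw ⊢
    exact hperm w hw
  have himg : S.image (fun w => (c * w + b) / a) = S := by
    refine Finset.eq_of_subset_of_card_le (fun x hx => ?_) ?_
    · obtain ⟨w, hw, rfl⟩ := mem_image.1 hx; exact hS w hw
    · rw [card_image_of_injective]
      intro x y h
      simpa [hc, ha] using h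
  set s := k ^ 2 / (k ^ 3 - 1) with hs
  have hsum : ∑ w ∈ S, w = s := by
    rw [sum_insert h0notMem, sum_image fun x _ y _ h => hinj h, Fin.sum_univ_three, hs, zero_add]
    have e1 : k - 1 ≠ 0 := by simpa using hkne 0
    have e2 : k - ω ≠ 0 := by simpa using hkne 1
    have e3 : k - ω ^ 2 ≠ 0 := by simpa using hkne 2
    simp only [Fin.val_zero, pow_zero, Fin.val_one, pow_one, Fin.val_two]
    field_simp
    linear_combination (2 * k - 2 * k ^ 3 * ω + k ^ 4 - ω) * hω2 + 3 * k ^ 2 * hω.pow_eq_one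
  have hshift : c * s + 4 * b = a * s := by
    have h1 : ∑ w ∈ S, (c * w + b) / a = s := by
      rw [← sum_image (f := fun w => w) (g := fun w => (c * w + b) / a) (fun x _ y _ h => by
        simpa [hc, ha] using h), himg, hsum]
    rw [← sum_div, sum_add_distrib, ← mul_sum, hsum, sum_const, hcard, nsmul_eq_mul] at h1
    field_simp at h1
    push_cast at h1
    linear_combination h1
  set g := s / 4 with hg
  set p := -(k * (k ^ 3 + 8)) / (24 * (k ^ 3 - 1) ^ 2) with hp
  set q := (k ^ 6 - 20 * k ^ 3 - 8) / (216 * (k ^ 3 - 1) ^ 3) with hq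
  set R := g * ((3 * k * g - 1) ^ 3 - (3 * g) ^ 3) / (27 * (k ^ 3 - 1)) with hR
  have hroot : ∀ w ∈ S, (w - g) ^ 4 + p * (w - g) ^ 2 + q * (w - g) + R = 0 := by
    intro w hw
    have h : w * ((3 * k * w - 1) ^ 3 - (3 * w) ^ 3) = 0 := by
      rcases (hmem w).1 hw with h | h
      · rw [h, zero_mul]
      · rw [h, sub_self, mul_zero]
    calc _ = w * ((3 * k * w - 1) ^ 3 - (3 * w) ^ 3) / (27 * (k ^ 3 - 1)) := by
          rw [hp, hq, hR, hg, hs]; field_simp; ring
      _ = 0 := by rw [h, zero_div]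
  set α := c / a with hα
  have hφ : ∀ w, (c * w + b) / a - g = α * (w - g) := by
    intro w
    rw [hα, hg]
    field_simp
    linear_combination hshift
  have hquad : ∀ w ∈ S, p * (α ^ 2 - α ^ 4) * (w - g) ^ 2 + q * (α - α ^ 4) * (w - g) +
      R * (1 - α ^ 4) = 0 := by
    intro w hw
    have h1 := hroot _ (hS w hw)
    rw [hφ] at h1
    linear_combination h1 - α ^ 4 * hroot w hw
  let Q : Polynomial K := Polynomial.C (p * (α ^ 2 - α ^ 4)) * Polynomial.X ^ 2 +
    Polynomial.C (q * (α - α ^ 4)) * Polynomial.X + Polynomial.C (R * (1 - α ^ 4))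
  have hQ : Q = 0 := by
    refine Polynomial.eq_zero_of_natDegree_lt_card_of_eval_eq_zero' Q (S.image (· - g)) ?_ ?_
    · intro z hz
      obtain ⟨w, hw, rfl⟩ := mem_image.1 hz
      simpa [Q] using hquad w hw
    · rw [card_image_of_injective _ sub_left_injective, hcard]
      exact lt_of_le_of_lt (Polynomial.natDegree_quadratic_le) (by norm_num)
  have c2 : p * (α ^ 2 - α ^ 4) = 0 := by
    have := congrArg (fun P => Polynomial.coeff P 2) hQ
    simp only [Q, Polynomial.coeff_add, Polynomial.coeff_C_mul, Polynomial.coeff_X_pow,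
      Polynomial.coeff_X, Polynomial.coeff_C, Polynomial.coeff_zero] at this
    simpa using this
  have c1 : q * (α - α ^ 4) = 0 := by
    have := congrArg (fun P => Polynomial.coeff P 1) hQ
    simp only [Q, Polynomial.coeff_add, Polynomial.coeff_C_mul, Polynomial.coeff_X_pow,
      Polynomial.coeff_X, Polynomial.coeff_C, Polynomial.coeff_zero] at this
    simpa using this
  have hp0 : p ≠ 0 := by simp [hp, hk0, h8, hD]
  have hq0 : q ≠ 0 := by simp [hq, h6, hD]
  have hα0 : α ≠ 0 := div_ne_zero hc ha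
  have a2 : α ^ 2 = 1 := by
    refine (mul_left_cancel₀ (pow_ne_zero 2 hα0) ?_).symm
    linear_combination (mul_eq_zero.1 c2).resolve_left hp0
  have a3 : α ^ 3 = 1 := by
    refine (mul_left_cancel₀ hα0 ?_).symm
    linear_combination (mul_eq_zero.1 c1).resolve_left hq0
  have hac : c = a := by
    have : α = 1 := by linear_combination a3 - α * a2
    rwa [hα, div_eq_one_iff_eq ha] at this
  rw [hac] at hshift
  simpa using hshift

/-- A linear substitution preserving `xyz` up to a nonzero scalar is monomial. -/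
lemma monomial_of_prod {A : Matrix (Fin 3) (Fin 3) K} (hA : A.det ≠ 0) {a : K}
    (h : ∀ v, (A.mulVec v) 0 * (A.mulVec v) 1 * (A.mulVec v) 2 = a * (v 0 * v 1 * v 2)) :
    ∃ (σ : Equiv.Perm (Fin 3)) (d : Fin 3 → K), A = Matrix.of fun i j => if σ i = j then d i else 0 := by
  have hrow : ∀ j : Fin 3, ∃ i, ∀ l, l ≠ j → A i l = 0 := by
    intro j
    by_contra! hne
    choose l hlj hl using hne
    let e : K → Fin 3 → K := fun t => if j = 0 then ![0, 1, t] else if j = 1 then ![1, 0, t] else ![1, t, 0]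
    let P : Fin 3 → Polynomial K := fun i =>
      if j = 0 then Polynomial.C (A i 1) + Polynomial.C (A i 2) * Polynomial.X
      else if j = 1 then Polynomial.C (A i 0) + Polynomial.C (A i 2) * Polynomial.X
      else Polynomial.C (A i 0) + Polynomial.C (A i 1) * Polynomial.X
    have hP : ∀ i, P i ≠ 0 := by
      intro i hi
      have h0 := congrArg (fun p => Polynomial.coeff p 0) hi
      have h1 := congrArg (fun p => Polynomial.coeff p 1) hi
      have := hlj i
      have := hl i
      generalize l i = m at *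
      fin_cases j <;> simp [P] at h0 h1 <;> fin_cases m <;> simp_all [Polynomial.coeff_C]
    have heval : ∀ i t, (P i).eval t = (A.mulVec (e t)) i := by
      intro i t
      fin_cases j <;> simp [P, e, Matrix.mulVec, dotProduct, Fin.sum_univ_three]
    obtain ⟨t, ht⟩ := Polynomial.exists_eval_ne_zero_of_natDegree_lt_card (P 0 * P 1 * P 2)
      (mul_ne_zero (mul_ne_zero (hP 0) (hP 1)) (hP 2))
      ((Cardinal.natCast_lt_aleph0).trans_le
        (Cardinal.infinite_iff.1 (Infinite.of_injective (Nat.cast : ℕ → K) Nat.cast_injective)))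
    refine ht ?_
    rw [Polynomial.eval_mul, Polynomial.eval_mul, heval, heval, heval, h]
    fin_cases j <;> simp [e]
  choose τ hτ using hrow
  have hdiag : ∀ j, A (τ j) j ≠ 0 := fun j h0 => hA (Matrix.det_eq_zero_of_row_eq_zero (τ j)
    fun l => if hl : l = j then hl ▸ h0 else hτ j l hl)
  have hinj : Function.Injective τ := fun j j' hjj => by
    by_contra hne
    exact hdiag j (by rw [hjj]; exact hτ j' j hne)
  let σ : Equiv.Perm (Fin 3) := (Equiv.ofBijective τ (Finite.injective_iff_bijective.1 hinj)).symm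
  refine ⟨σ, fun i => A i (σ i), ?_⟩
  ext i j
  rw [Matrix.of_apply]
  have hi : τ (σ i) = i := (Equiv.ofBijective τ _).apply_symm_apply i
  split_ifs with hij
  · rw [← hij]
  · have := hτ (σ i) j (Ne.symm hij)
    rwa [hi] at this

end Groth.Agent.Hesse51
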