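import Groth.Agent.Hesse51.Basic
import Groth.Agent.Ci77.Basic
import Mathlib.FieldTheory.IsAlgClosed.Basic
import Mathlib.RingTheory.RootsOfUnity.AlgebraicallyClosed

/-!
Every smooth plane cubic has a flex and is projectively a Hesse cubic.
-/

set_option autoImplicit false

namespace Groth.Agent.Hesse51

open Groth.Agent.Eckardt51

variable {K : Type*} [Field K] [CharZero K] [IsAlgClosed K]

/-- The cubic has no singular point. -/
def Smooth3 (F : Sym3 K (Fin 3 → K)) : Prop := ∀ v, v ≠ 0 → F.f v = 0 → ∃ y, F.T v v y ≠ 0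

open MvPolynomial in
/-- A smooth cubic has a flex. -/
lemma exists_flexDir (f : MvPolynomial (Fin 3) K) (hf : f.IsHomogeneous 3)
    (hsm : Smooth3 (ofPoly f)) : ∃ v w, (ofPoly f).f v = 0 ∧ FlexDir (ofPoly f) v w := by
  let M : Matrix (Fin 3) (Fin 3) (MvPolynomial (Fin 3) K) := Matrix.of fun i j =>
    ∑ l, C ((ofPoly f).T (Pi.single l 1) (Pi.single i 1) (Pi.single j 1)) * X l
  have hM : ∀ v, eval v M.det = (LinearMap.toMatrix₂' K ((ofPoly f).T v)).det := by
    intro v
    rw [RingHom.map_det]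
    congr 1
    ext i j
    rw [RingHom.mapMatrix_apply, Matrix.map_apply, LinearMap.toMatrix₂'_apply]
    conv_rhs => rw [pi_eq_sum_univ' v, map_sum, LinearMap.sum_apply, LinearMap.sum_apply]
    simp [M, mul_comm]
  have hzero : eval (0 : Fin 3 → K) M.det = 0 := by
    rw [hM, map_zero, map_zero, Matrix.det_zero]
  have hf0 : eval (0 : Fin 3 → K) f = 0 := by
    rw [eval_eq_f hf]; simp [Sym3.f]
  obtain ⟨v, hv, hzv⟩ := Ci77.exists_common_zero ![f, M.det]
    (fun i => by fin_cases i; exacts [hf0, hzero]) (by norm_num)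
  have h0 : (ofPoly f).f v = 0 := by rw [← eval_eq_f hf]; simpa using hzv 0
  have h1 : (LinearMap.toMatrix₂' K ((ofPoly f).T v)).det = 0 := by
    rw [← hM]; simpa using hzv 1
  obtain ⟨w, hw⟩ := exists_flexDir_of_det _ hv (hsm v hv h0) h1
  exact ⟨v, w, h0, hw⟩

omit [IsAlgClosed K] in
/-- A pulled back form that is a Hesse cubic has nonsingular parameter. -/
lemma k_cube_ne_one (F : Sym3 K (Fin 3 → K)) (hsm : Smooth3 F)
    (Φ : (Fin 3 → K) ≃ₗ[K] (Fin 3 → K)) {k c : K} (h : ∀ u, F.f (Φ u) = c * hk k u) :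
    k ^ 3 ≠ 1 := by
  intro hk1
  have hT := fun x y z => mul_left_cancel₀ (show (6 : K) ≠ 0 by norm_num)
    (show 6 * F.T (Φ x) (Φ y) (Φ z) = 6 * (c * (Hk k).T x y z) by
      rw [F.six_T, mul_left_comm, (Hk k).six_T]
      simp only [← map_add, h, Hk_f]
      ring)
  set v : Fin 3 → K := ![1, 1, k ^ 2]
  have hv : ∀ y, (Hk k).T v v y = 0 := fun y => by
    simp only [Hk_T, v, Matrix.cons_val]
    linear_combination (k * y 2 - y 0 - y 1) * hk1
  have hf : F.f (Φ v) = 0 := by rw [Sym3.f, hT, hv, mul_zero]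
  have hv0 : Φ v ≠ 0 := fun h0 => by
    have : v 0 = 0 := congrFun (Φ.map_eq_zero_iff.1 h0) 0
    simp [v] at this
  obtain ⟨y, hy⟩ := hsm _ hv0 hf
  refine hy ?_
  rw [← Φ.apply_symm_apply y, hT, hv, mul_zero]

set_option maxHeartbeats 1000000 in
/-- Hesse normal form of a smooth cubic with a given flex. -/
lemma exists_hesse_of_flex (F : Sym3 K (Fin 3 → K)) (hsm : Smooth3 F) {v w : Fin 3 → K}
    (hfv : F.f v = 0) (hfl : FlexDir F v w) :
    ∃ (Φ : (Fin 3 → K) ≃ₗ[K] (Fin 3 → K)) (k c : K), c ≠ 0 ∧ ∀ u, F.f (Φ u) = c * hk k u := by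
  obtain ⟨hind, h1, h2⟩ := hfl
  have hv0 : v ≠ 0 := hind.ne_zero 0
  obtain ⟨e, hb⟩ := hsm v hv0 hfv
  set b := F.T v v e with hbdef
  set c1 := F.T v w e with hc1
  set d1 := F.T v e e with hd1
  set a := F.f w with hadef
  set g2 := 3 * F.T w w e with hg2
  set g1 := 3 * F.T w e e with hg1
  set g0 := F.f e with hg0
  have hexp : ∀ x y z : K, F.f (x • w + y • v + z • e) =
      a * x ^ 3 + g2 * x ^ 2 * z + g1 * x * z ^ 2 + g0 * z ^ 3 +
        3 * b * y ^ 2 * z + 6 * c1 * x * y * z + 3 * d1 * y * z ^ 2 := by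
    intro x y z
    have hP : F.f (x • w + y • v) = a * x ^ 3 := by
      rw [F.f_add_smul, F.f_smul, hfv]
      simp only [map_smul, LinearMap.smul_apply, smul_eq_mul]
      rw [F.s13 w w v, F.s13 w v v, h1, h2, ← hadef]
      ring
    rw [F.f_add_smul, hP, ← hg0]
    simp only [map_add, map_smul, LinearMap.add_apply, LinearMap.smul_apply, smul_eq_mul]
    rw [F.s12 w v e, ← hbdef, ← hc1, ← hd1, hg1, hg2]
    ring
  -- vectors outside of the tangent line
  have hind3 : ∀ x y z : K, x • w + y • v + z • e = 0 → x = 0 ∧ y = 0 ∧ z = 0 := by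
    intro x y z h
    have hz : z = 0 := by
      have := congrArg (F.T v v) h
      simpa [show F.T v v v = 0 from hfv, h1, ← hbdef, hb] using this
    rw [hz, zero_smul, add_zero] at h
    obtain ⟨hy, hx⟩ := LinearIndependent.pair_iff.1 hind y x (by rw [← h]; module)
    exact ⟨hx, hy, hz⟩
  -- criterion for a singular point
  have sing : ∀ p : Fin 3 → K, p ≠ 0 → F.T p p w = 0 → F.T p p v = 0 → F.T p p e = 0 → False := by
    intro p hp hw hv he
    have hspan : ∀ y : Fin 3 → K, ∃ x₀ y₀ z₀ : K, y = x₀ • w + y₀ • v + z₀ • e := by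
      intro y
      have hli : LinearIndependent K ![w, v, e] := by
        rw [Fintype.linearIndependent_iff]
        intro g hg
        simp only [Fin.sum_univ_three, Matrix.cons_val] at hg
        obtain ⟨a1, a2, a3⟩ := hind3 _ _ _ hg
        intro i; fin_cases i <;> assumption
      have htop := hli.span_eq_top_of_card_eq_finrank (by simp)
      obtain ⟨g, hg⟩ := (Submodule.mem_span_range_iff_exists_fun K).1
        (htop ▸ Submodule.mem_top : y ∈ Submodule.span K (Set.range ![w, v, e]))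
      exact ⟨g 0, g 1, g 2, by rw [← hg, Fin.sum_univ_three]; rfl⟩
    have hzero : ∀ y, F.T p p y = 0 := fun y => by
      obtain ⟨x₀, y₀, z₀, rfl⟩ := hspan y
      simp [hw, hv, he]
    obtain ⟨y, hy⟩ := hsm p hp (hzero p)
    exact hy (hzero y)
  have ha : a ≠ 0 := by
    intro ha
    obtain ⟨t, ht⟩ := IsAlgClosed.exists_root
      (Polynomial.C b * Polynomial.X ^ 2 + Polynomial.C (2 * c1) * Polynomial.X +
        Polynomial.C (F.T w w e))
      (by rw [Polynomial.degree_quadratic hb]; decide)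
    simp only [Polynomial.IsRoot, Polynomial.eval_add, Polynomial.eval_mul, Polynomial.eval_C,
      Polynomial.eval_pow, Polynomial.eval_X] at ht
    refine sing (t • v + w) (fun h => one_ne_zero
      (hind3 1 t 0 (by rw [← h]; module)).1) ?_ ?_ ?_ <;>
      simp only [map_add, map_smul, LinearMap.add_apply, LinearMap.smul_apply, smul_eq_mul]
    · rw [F.s12 w v w, h1, h2, show F.T w w w = 0 from ha]; ring
    · rw [F.s12 w v v, F.s23 v w v, h1, show F.T v v v = 0 from hfv, F.s13 w w v, h2]; ring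
    · rw [F.s12 w v e, ← hbdef, ← hc1]; linear_combination ht
  -- completing the square
  set p := c1 / b with hp
  set q := d1 / (2 * b) with hq
  set G2 := g2 - 3 * b * p ^ 2 with hG2
  set G1 := g1 - 6 * b * p * q with hG1
  set G0 := g0 - 3 * b * q ^ 2 with hG0
  have hexp' : ∀ x y z : K, F.f (x • w + (y - p * x - q * z) • v + z • e) =
      a * x ^ 3 + G2 * x ^ 2 * z + G1 * x * z ^ 2 + G0 * z ^ 3 + 3 * b * y ^ 2 * z := by
    intro x y z
    rw [hexp, hG2, hG1, hG0, hp, hq]
    field_simp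
    ring
  clear_value b c1 d1 a g2 g1 g0
  clear_value p q
  clear_value G2 G1 G0
  obtain ⟨r, hr⟩ := IsAlgClosed.exists_root
    (Polynomial.C (-(3 * a ^ 2)) * Polynomial.X ^ 4 + Polynomial.C (-(4 * a * G2)) * Polynomial.X ^ 3 +
      Polynomial.C (-(6 * a * G1)) * Polynomial.X ^ 2 + Polynomial.C (-(12 * a * G0)) * Polynomial.X +
      Polynomial.C (G1 ^ 2 - 4 * G2 * G0)) (by
      refine fun hdeg => ?_
      have hle := Polynomial.natDegree_eq_zero_iff_degree_le_zero.2 hdeg.le
      have h4 := Polynomial.coeff_eq_zero_of_natDegree_lt (p :=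
        Polynomial.C (-(3 * a ^ 2)) * Polynomial.X ^ 4 +
        Polynomial.C (-(4 * a * G2)) * Polynomial.X ^ 3 +
        Polynomial.C (-(6 * a * G1)) * Polynomial.X ^ 2 + Polynomial.C (-(12 * a * G0)) * Polynomial.X +
        Polynomial.C (G1 ^ 2 - 4 * G2 * G0)) (n := 4) (by omega)
      simp only [Polynomial.coeff_add, Polynomial.coeff_C_mul, Polynomial.coeff_X_pow,
        Polynomial.coeff_X, Polynomial.coeff_C] at h4
      norm_num at h4
      exact ha (by simpa using h4))
  simp only [Polynomial.IsRoot, Polynomial.eval_pow, Polynomial.eval_mul,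
    Polynomial.eval_add, Polynomial.eval_C, Polynomial.eval_X] at hr
  set A2 := -(3 * a * r) - G2 with hA2
  set A1 := 3 * a * r ^ 2 - G1 with hA1
  set A0 := -(a * r ^ 3) - G0 with hA0
  have hdisc : A1 ^ 2 = 4 * A2 * A0 := by rw [hA1, hA2, hA0]; linear_combination hr
  clear_value A2 A1 A0
  -- the quadratic residue is `3 b` times the square of a linear form
  obtain ⟨m, n, hm, hmn, hn⟩ : ∃ m n : K, 3 * b * m ^ 2 = A2 ∧ 6 * b * m * n = A1 ∧
      3 * b * n ^ 2 = A0 := by
    obtain ⟨m, hm⟩ := IsAlgClosed.exists_pow_nat_eq (A2 / (3 * b)) (n := 2) two_pos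
    have hm' : 3 * b * m ^ 2 = A2 := by rw [hm]; field_simp
    by_cases hm0 : m = 0
    · obtain ⟨n, hn⟩ := IsAlgClosed.exists_pow_nat_eq (A0 / (3 * b)) (n := 2) two_pos
      refine ⟨0, n, hm0 ▸ hm', ?_, by rw [hn]; field_simp⟩
      have : A2 = 0 := by rw [← hm', hm0]; ring
      rw [this, mul_zero, zero_mul] at hdisc
      rw [pow_eq_zero_iff two_ne_zero] at hdisc
      rw [hdisc]; ring
    · refine ⟨m, A1 / (6 * b * m), hm', by field_simp, ?_⟩
      field_simp
      rw [← hm'] at hdisc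
      linear_combination 3 * hdisc
  have hform : ∀ x y z : K, F.f (x • w + (y - p * x - q * z) • v + z • e) =
      a * (x - r * z) ^ 3 + 3 * b * z * (y - (m * x + n * z)) * (y + (m * x + n * z)) := by
    intro x y z
    rw [hexp']
    linear_combination x ^ 2 * z * (hm.trans hA2) + x * z ^ 2 * (hmn.trans hA1) +
      z ^ 3 * (hn.trans hA0)
  let Ψ : (Fin 3 → K) →ₗ[K] (Fin 3 → K) :=
    { toFun := fun u => u 0 • w + (u 1 - p * u 0 - q * u 2) • v + u 2 • e
      map_add' := fun u u' => by simp only [Pi.add_apply]; module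
      map_smul' := fun t u => by simp only [Pi.smul_apply, smul_eq_mul, RingHom.id_apply]; module }
  have hΨ0 : ∀ u, Ψ u = 0 → u = 0 := fun u hu => by
    obtain ⟨hx, hy, hz⟩ := hind3 _ _ _ hu
    funext i
    fin_cases i
    · exact hx
    · simpa [hx, hz] using hy
    · exact hz
  have hΨ : ∀ u, F.f (Ψ u) = a * (u 0 - r * u 2) ^ 3 +
      3 * b * u 2 * (u 1 - (m * u 0 + n * u 2)) * (u 1 + (m * u 0 + n * u 2)) :=
    fun u => hform _ _ _
  -- singular points in the new coordinates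
  have sing' : ∀ u : Fin 3 → K, u ≠ 0 → (∀ y, F.T (Ψ u) (Ψ u) (Ψ y) = 0) → False := by
    intro u hu h
    obtain ⟨y, hy⟩ := hsm _ (fun h0 => hu (hΨ0 u h0)) (h u)
    obtain ⟨y', rfl⟩ := (LinearMap.injective_iff_surjective (f := Ψ)).1
      ((injective_iff_map_eq_zero Ψ).2 hΨ0) y
    exact hy (h y')
  have hTΨ : ∀ u y, 6 * F.T (Ψ u) (Ψ u) (Ψ y) = F.f (Ψ (u + u + y)) - F.f (Ψ (u + u)) -
      2 * F.f (Ψ (u + y)) + 2 * F.f (Ψ u) + F.f (Ψ y) := by
    intro u y
    rw [F.six_T, map_add, map_add, map_add]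
    ring
  have six : ∀ t : K, 6 * t = 0 → t = 0 := fun t h => by simpa using h
  obtain ⟨ω, hω⟩ := HasEnoughRootsOfUnity.exists_primitiveRoot K 3
  have hω3 : ω ^ 3 = 1 := hω.pow_eq_one
  have hω2 : ω ^ 2 + ω + 1 = 0 := by
    have := hω.geom_sum_eq_zero (by norm_num)
    simp [Finset.sum_range_succ] at this
    linear_combination this
  by_cases hm0 : m = 0
  · -- three concurrent lines
    have hn0 : n ≠ 0 := fun hn0 => sing' ![r, 0, 1] (fun h => by
      simpa using congrFun h 2) (fun y => six _ (by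
        rw [hTΨ]; simp only [hΨ, hm0, hn0, Pi.add_apply, Matrix.cons_val]; ring))
    obtain ⟨l, hl⟩ := IsAlgClosed.exists_pow_nat_eq (-(3 * b / (2 * n)) / a) (n := 3) (by norm_num)
    have hc : -(3 * b / (2 * n)) ≠ 0 := by simp [hb, hn0]
    have hl0 : l ≠ 0 := fun h => div_ne_zero hc ha (by rw [← hl, h]; simp)
    let P : (Fin 3 → K) →ₗ[K] (Fin 3 → K) :=
      { toFun := fun u => ![l * u 0 + r * ((u 1 + u 2) / (2 * n)),
          (u 1 + u 2) / 2 + ω * u 1 + ω ^ 2 * u 2, (u 1 + u 2) / (2 * n)]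
        map_add' := fun u u' => by
          ext i; fin_cases i <;> simp <;> ring
        map_smul' := fun t u => by
          ext i; fin_cases i <;> simp <;> ring }
    have hP : Function.Injective (Ψ ∘ₗ P) := by
      rw [injective_iff_map_eq_zero]
      intro u hu
      have h0 := hΨ0 _ hu
      have e0 := congrFun h0 0
      have e1 := congrFun h0 1
      have e2 := congrFun h0 2
      simp [P, hn0] at e0 e1 e2
      have h1 : u 1 = 0 := by
        rw [e2] at e1
        have h : (ω - ω ^ 2) * u 1 = 0 := by linear_combination e1 - ω ^ 2 * e2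
        refine (mul_eq_zero.1 h).resolve_left fun h' => ?_
        exact hω.ne_one (by norm_num) (mul_left_cancel₀ (hω.ne_zero (by norm_num))
          (by linear_combination -h'))
      have h2 : u 2 = 0 := by rw [h1, zero_add] at e2; exact e2
      rw [h1, h2] at e0
      simp [hl0] at e0
      funext i; fin_cases i <;> assumption
    refine ⟨LinearEquiv.ofInjectiveEndo _ hP, 0, -(3 * b / (2 * n)), hc, fun u => ?_⟩
    rw [LinearEquiv.coe_ofInjectiveEndo, LinearMap.comp_apply, hΨ, hk]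
    simp only [P, LinearMap.coe_mk, AddHom.coe_mk, Matrix.cons_val, hm0, zero_mul, zero_add]
    have e1 : (u 1 + u 2) / 2 + ω * u 1 + ω ^ 2 * u 2 + n * ((u 1 + u 2) / (2 * n)) =
        -(ω ^ 2 * u 1 + ω * u 2) := by
      field_simp
      linear_combination (2 * u 1 + 2 * u 2) * hω2
    have e2 : (u 1 + u 2) / 2 + ω * u 1 + ω ^ 2 * u 2 - n * ((u 1 + u 2) / (2 * n)) =
        ω * u 1 + ω ^ 2 * u 2 := by field_simp; ring
    have e3 : (ω * u 1 + ω ^ 2 * u 2) * (ω ^ 2 * u 1 + ω * u 2) =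
        u 1 ^ 2 + u 2 ^ 2 - u 1 * u 2 := by
      linear_combination (u 1 ^ 2 + u 2 ^ 2 + ω * u 1 * u 2) * hω3 + u 1 * u 2 * hω2
    have hl' : a * l ^ 3 = -(3 * b / (2 * n)) := by rw [hl]; field_simp
    rw [e1, e2, mul_neg, mul_assoc (3 * b * ((u 1 + u 2) / (2 * n))), e3]
    linear_combination u 0 ^ 3 * hl'
  · -- the general triangle
    set α := -(n / m + r) with hα
    have hα0 : α ≠ 0 := fun h0 => sing' ![-n, 0, m] (fun h => hm0 (by
      simpa using congrFun h 2)) (fun y => six _ (by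
        have hr' : r = -(n / m) := by rw [hα] at h0; linear_combination -h0
        rw [hTΨ]
        simp only [hΨ, hr', Pi.add_apply, Matrix.cons_val]
        field_simp
        ring))
    set u0 := -(12 * b * m ^ 2 / α) with hu0
    have hu0ne : u0 ≠ 0 := by simp [hu0, hb, hm0, hα0]
    let L : (Fin 3 → K) → Fin 3 → K := fun u =>
      ![u 0 + u 1 + u 2, u 0 + ω * u 1 + ω ^ 2 * u 2, u 0 + ω ^ 2 * u 1 + ω * u 2]
    let P : (Fin 3 → K) →ₗ[K] (Fin 3 → K) :=
      { toFun := fun u => ![(L u 2 + L u 1) - n / m * (L u 0 / α), m * (L u 2 - L u 1), L u 0 / α]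
        map_add' := fun u u' => by
          ext i; fin_cases i <;> simp [L] <;> ring
        map_smul' := fun t u => by
          ext i; fin_cases i <;> simp [L] <;> ring }
    have hP : Function.Injective (Ψ ∘ₗ P) := by
      rw [injective_iff_map_eq_zero]
      intro u hu
      have h0 := hΨ0 _ hu
      have e0 := congrFun h0 0
      have e1 := congrFun h0 1
      have e2 := congrFun h0 2
      simp [P, hα0, hm0] at e0 e1 e2
      rw [e2] at e0
      simp at e0
      have a1 : L u 1 = 0 := by linear_combination (e0 - e1) / 2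
      have a2 : L u 2 = 0 := by linear_combination (e0 + e1) / 2
      simp [L] at e2 a1 a2
      funext i
      fin_cases i
      · change u 0 = 0
        linear_combination (e2 + a1 + a2) / 3 - (u 1 + u 2) / 3 * hω2
      · change u 1 = 0
        linear_combination (e2 + ω ^ 2 * a1 + ω * a2) / 3 - u 0 / 3 * hω2 -
          2 / 3 * u 1 * hω3 - (ω ^ 2 - ω + 1) / 3 * u 2 * hω2
      · change u 2 = 0
        linear_combination (e2 + ω * a1 + ω ^ 2 * a2) / 3 - u 0 / 3 * hω2 -
          2 / 3 * u 2 * hω3 - (ω ^ 2 - ω + 1) / 3 * u 1 * hω2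
    have hfP : ∀ u, F.f ((Ψ ∘ₗ P) u) = (u0 + 27 * a) * u 0 ^ 3 + u0 * u 1 ^ 3 + u0 * u 2 ^ 3 -
        3 * u0 * (u 0 * u 1 * u 2) := by
      intro u
      have hsum : L u 0 + L u 1 + L u 2 = 3 * u 0 := by
        simp [L]; linear_combination (u 1 + u 2) * hω2
      have hprod : L u 0 * L u 1 * L u 2 =
          u 0 ^ 3 + u 1 ^ 3 + u 2 ^ 3 - 3 * (u 0 * u 1 * u 2) := by
        simp only [L, Matrix.cons_val]
        linear_combination (u 1 ^ 3 + u 2 ^ 3) * hω3 +
          (u 0 ^ 2 * u 1 + u 0 ^ 2 * u 2 + ω * (u 0 * u 1 ^ 2 + u 0 * u 2 ^ 2) +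
            (ω ^ 2 - ω + 3) * u 0 * u 1 * u 2 +
            ω ^ 2 * (u 1 * u 2 ^ 2 + u 1 ^ 2 * u 2)) * hω2
      rw [LinearMap.comp_apply, hΨ]
      simp only [P, LinearMap.coe_mk, AddHom.coe_mk, Matrix.cons_val]
      have e1 : L u 2 + L u 1 - n / m * (L u 0 / α) - r * (L u 0 / α) =
          L u 0 + L u 1 + L u 2 := by
        rw [show n / m = -α - r by rw [hα]; ring]
        field_simp
        ring
      have e2 : m * (L u 2 + L u 1 - n / m * (L u 0 / α)) + n * (L u 0 / α) =
          m * (L u 2 + L u 1) := by field_simp; ring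
      calc _ = a * (L u 0 + L u 1 + L u 2) ^ 3 + u0 * (L u 0 * L u 1 * L u 2) := by
            rw [e1, e2, hu0]
            ring
        _ = _ := by rw [hsum, hprod]; ring
    have hne : u0 + 27 * a ≠ 0 := fun h0 => sing' (P ![1, 0, 0]) (fun h => by
        have := hP (a₁ := ![1, 0, 0]) (a₂ := 0) (by simp [h])
        simpa using congrFun this 0) (fun y => six _ (by
      obtain ⟨y', rfl⟩ := (LinearMap.injective_iff_surjective (f := P)).1
        (fun x x' h => hP (by simp [h])) y
      rw [hTΨ, ← map_add P, ← map_add P, ← map_add P]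
      simp only [LinearMap.comp_apply] at hfP
      simp only [hfP, Pi.add_apply, Matrix.cons_val, h0]
      ring))
    obtain ⟨μ, hμ⟩ := IsAlgClosed.exists_pow_nat_eq (u0 / (u0 + 27 * a)) (n := 3) (by norm_num)
    have hμ0 : μ ≠ 0 := fun h => div_ne_zero hu0ne hne (by rw [← hμ, h]; simp)
    let S : (Fin 3 → K) →ₗ[K] (Fin 3 → K) :=
      { toFun := fun u => ![μ * u 0, u 1, u 2]
        map_add' := fun u u' => by ext i; fin_cases i <;> simp [mul_add]
        map_smul' := fun t u => by ext i; fin_cases i <;> simp <;> ring }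
    have hS : Function.Injective ((Ψ ∘ₗ P) ∘ₗ S) := by
      refine hP.comp fun x x' h => funext fun i => ?_
      have := congrFun h i
      fin_cases i <;> simpa [S, hμ0] using this
    refine ⟨LinearEquiv.ofInjectiveEndo _ hS, μ, u0, hu0ne, fun u => ?_⟩
    rw [LinearEquiv.coe_ofInjectiveEndo, LinearMap.comp_apply, hfP, hk]
    simp only [S, LinearMap.coe_mk, AddHom.coe_mk, Matrix.cons_val]
    field_simp at hμ
    linear_combination u 0 ^ 3 * hμ

open MvPolynomial in
/-- Hesse normal form of a smooth plane cubic. -/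
theorem exists_hesse (f : MvPolynomial (Fin 3) K) (hf : f.IsHomogeneous 3)
    (hsm : ∀ v : Fin 3 → K, v ≠ 0 → eval v f = 0 → ∃ i, eval v (pderiv i f) ≠ 0) :
    ∃ (Φ : (Fin 3 → K) ≃ₗ[K] (Fin 3 → K)) (k c : K),
      k ^ 3 ≠ 1 ∧ c ≠ 0 ∧ ∀ u, (ofPoly f).f (Φ u) = c * hk k u := by
  have hsm' : Smooth3 (ofPoly f) := smooth_ofPoly hf hsm
  obtain ⟨v, w, hv, hvw⟩ := exists_flexDir f hf hsm'
  obtain ⟨Φ, k, c, hc, h⟩ := exists_hesse_of_flex _ hsm' hv hvw
  exact ⟨Φ, k, c, k_cube_ne_one _ hsm' Φ h, hc, h⟩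

end Groth.Agent.Hesse51
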