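import Groth.Agent.Hesse51.Normal

/-!
Automorphisms and flexes transported to the Hesse cubic.
-/

set_option autoImplicit false

namespace Groth.Agent.Hesse51

open Groth.Agent.Eckardt51

variable {K : Type*} [Field K] [CharZero K]

variable {F : Sym3 K (Fin 3 → K)} {Φ : (Fin 3 → K) ≃ₗ[K] (Fin 3 → K)} {k c : K}
  (hΦ : ∀ u, F.f (Φ u) = c * hk k u)

include hΦ

lemma T_transport (x y z : Fin 3 → K) : F.T (Φ x) (Φ y) (Φ z) = c * (Hk k).T x y z := by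
  refine mul_left_cancel₀ (show (6 : K) ≠ 0 by norm_num) ?_
  rw [F.six_T, mul_left_comm, (Hk k).six_T]
  simp only [← map_add, hΦ, Hk_f]
  ring

lemma flexDir_transport (hc : c ≠ 0) (v w : Fin 3 → K) :
    FlexDir F (Φ v) (Φ w) ↔ FlexDir (Hk k) v w := by
  have hli : LinearIndependent K ![Φ v, Φ w] ↔ LinearIndependent K ![v, w] := by
    rw [LinearIndependent.pair_iff, LinearIndependent.pair_iff]
    simp only [← map_smul, ← map_add, Φ.map_eq_zero_iff]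
  simp only [FlexDir, hli, T_transport hΦ, mul_eq_zero, hc, false_or]

lemma flex_classify (hc : c ≠ 0) (hk1 : k ^ 3 ≠ 1) {v w : Fin 3 → K} (hv : v ≠ 0)
    (hfv : F.f v = 0) (hw : FlexDir F v w) :
    ∃ Q : Matrix (Fin 3) (Fin 3) K, IsUnit Q.det ∧ (∀ k v, hk k (Q.mulVec v) = hk k v) ∧
      ∃ d : K, d ≠ 0 ∧ v = d • Φ (Q.mulVec ![0, 1, -1]) := by
  have hv' : Φ.symm v ≠ 0 := fun h => hv (Φ.symm.map_eq_zero_iff.1 h)
  have hf' : hk k (Φ.symm v) = 0 := by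
    have := hΦ (Φ.symm v)
    rw [Φ.apply_symm_apply, hfv] at this
    exact (mul_eq_zero.1 this.symm).resolve_left hc
  have hfl : FlexDir (Hk k) (Φ.symm v) (Φ.symm w) := by
    rwa [← flexDir_transport hΦ hc, Φ.apply_symm_apply, Φ.apply_symm_apply]
  obtain ⟨γ, d, hγ, h⟩ := exists_flexDir_classify hk1 hv' hf' hfl
  obtain ⟨u, hu, huv⟩ : ∃ u, (u = ![0, 1, -γ] ∨ u = ![-γ, 0, 1] ∨ u = ![1, -γ, 0]) ∧
      Φ.symm v = d • u := by
    rcases h with h | h | h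
    exacts [⟨_, Or.inl rfl, h⟩, ⟨_, Or.inr (Or.inl rfl), h⟩, ⟨_, Or.inr (Or.inr rfl), h⟩]
  obtain ⟨Q, hQ, hQk, hQu⟩ := exists_symm_base hγ hu
  refine ⟨Q, hQ, hQk, d, fun h0 => hv' (by rw [huv, h0, zero_smul]), ?_⟩
  rw [hQu, ← map_smul, ← huv, Φ.apply_symm_apply]

lemma isFlex_transport (hc : c ≠ 0) {γ : K} (hγ : γ ^ 3 = 1) {u : Fin 3 → K}
    (hu : u = ![0, 1, -γ] ∨ u = ![-γ, 0, 1] ∨ u = ![1, -γ, 0]) :
    Φ u ≠ 0 ∧ F.f (Φ u) = 0 ∧ ∃ w, FlexDir F (Φ u) w := by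
  obtain ⟨Q, hQ, hQk, hQu⟩ := exists_symm_base hγ hu
  obtain ⟨hind, h1, h2⟩ := flexDir_base k
  have hT := (Hk k).T_map_of_f_map Q.mulVec (Matrix.mulVec_add Q) 1
    (fun x => by rw [one_mul, Hk_f, Hk_f, hQk])
  have hinj := Matrix.mulVec_injective_iff_isUnit.2 ((Matrix.isUnit_iff_isUnit_det Q).2 hQ)
  refine ⟨fun h0 => ?_, ?_, Φ (Q.mulVec ![1, -k, 0]), (flexDir_transport hΦ hc _ _).2 ?_⟩
  · rw [Φ.map_eq_zero_iff, ← hQu] at h0
    have := congrFun (hinj (h0.trans (Matrix.mulVec_zero Q).symm)) 1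
    simp at this
  · rw [hΦ, ← hQu, hQk]; simp [hk]; right; ring
  · rw [← hQu]
    refine ⟨LinearIndependent.pair_iff.2 fun s t hst => ?_, by rw [hT, h1, mul_zero],
      by rw [hT, h2, mul_zero]⟩
    rw [← Matrix.mulVec_smul, ← Matrix.mulVec_smul, ← Matrix.mulVec_add] at hst
    exact LinearIndependent.pair_iff.1 hind _ _ (hinj (hst.trans (Matrix.mulVec_zero Q).symm))

/-- An automorphism fixing all flexes is a scalar. -/
lemma eq_smul_of_fixing (hc : c ≠ 0) {ω : K} (hω : ω ^ 3 = 1) (hω1 : ω ≠ 1)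
    (A : (Fin 3 → K) →ₗ[K] (Fin 3 → K))
    (hA : ∀ v, v ≠ 0 → F.f v = 0 → (∃ w, FlexDir F v w) → ∃ d : K, A v = d • v) :
    ∃ d : K, ∀ v, A v = d • v := by
  have key : ∀ γ u, γ ^ 3 = 1 → (u = ![0, 1, -γ] ∨ u = ![-γ, 0, 1] ∨ u = ![1, -γ, 0]) →
      ∃ d : K, A (Φ u) = d • Φ u := fun γ u hγ hu => by
    obtain ⟨a, b, c'⟩ := isFlex_transport hΦ hc hγ hu
    exact hA _ a b c'
  obtain ⟨d1, e1⟩ := key 1 ![0, 1, -1] (one_pow 3) (Or.inl (by simp))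
  obtain ⟨d2, e2⟩ := key ω ![0, 1, -ω] hω (Or.inl rfl)
  obtain ⟨d3, e3⟩ := key 1 ![-1, 0, 1] (one_pow 3) (Or.inr (Or.inl rfl))
  obtain ⟨d4, e4⟩ := key ω ![-ω, 0, 1] hω (Or.inr (Or.inl rfl))
  have hrel : (![-ω, 0, 1] : Fin 3 → K) = ω • ![-1, 0, 1] - ![0, 1, -1] + ![0, 1, -ω] := by
    funext i; fin_cases i <;> simp <;> ring
  have hind : ∀ a b e : K, a • (![0, 1, -1] : Fin 3 → K) + b • ![0, 1, -ω] + e • ![-1, 0, 1] = 0 →
      a = 0 ∧ b = 0 ∧ e = 0 := by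
    intro a b e h
    have h0 := congrFun h 0
    have h1 := congrFun h 1
    have h2 := congrFun h 2
    simp at h0 h1 h2
    have hb : b = 0 := (mul_eq_zero.1 (show b * (ω - 1) = 0 by
      linear_combination -h1 - h2 + h0)).resolve_right (sub_ne_zero.2 hω1)
    exact ⟨by linear_combination h1 - hb, hb, h0⟩
  rw [hrel] at e4
  simp only [map_add, map_sub, map_smul, e1, e2, e3] at e4
  obtain ⟨h1, h2, h3⟩ := hind (d4 - d1) (d2 - d4) (ω * (d3 - d4)) (Φ.injective (by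
    simp only [map_add, map_smul, map_zero]
    rw [← sub_eq_zero.2 e4]; module))
  have hω0 : ω ≠ 0 := fun h => by simp [h] at hω
  rw [sub_eq_zero] at h1 h2
  have h3' : d3 = d4 := sub_eq_zero.1 ((mul_eq_zero.1 h3).resolve_left hω0)
  refine ⟨d4, fun v => ?_⟩
  obtain ⟨u, rfl⟩ := Φ.surjective v
  have hu : u = (u 1 - (u 0 + u 1 + u 2) / (1 - ω)) • ![0, 1, -1] +
      ((u 0 + u 1 + u 2) / (1 - ω)) • ![0, 1, -ω] + (-u 0) • ![-1, 0, 1] := by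
    have : (1 : K) - ω ≠ 0 := sub_ne_zero.2 (Ne.symm hω1)
    funext i
    fin_cases i <;> simp
    field_simp
    ring
  rw [hu]
  simp only [map_add, map_smul, e1, e2, e3, ← h1, h2, h3']
  module

end Groth.Agent.Hesse51
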